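/-
P28: tools for the theorem on central fixed involutions.
-/
import Cfsg.Agent.P28.E
import Cfsg.Agent.P22.Main
import Cfsg.Agent.H6.PiElem

set_option autoImplicit false
set_option linter.unusedSectionVars false
set_option linter.style.haveILetI false

namespace Cfsg.Agent.P28

open Subgroup Cfsg Cfsg.Agent Cfsg.Agent.FT
open Cfsg.Agent.H7.SC (oz jj)
open scoped commutatorElement

universe u

variable {X : Type u} [Group X] [Finite X]

theorem zp2 {t a : X} (tt : t * t = 1) (h : a ∈ zpowers t) : a = 1 ∨ a = t := by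
  obtain ⟨k, rfl⟩ := h
  have e : t ^ (2 : ℤ) = 1 := by rw [zpow_two, tt]
  rcases Int.even_or_odd' k with ⟨j, rfl | rfl⟩
  · exact .inl (by simp only [zpow_mul, e, one_zpow])
  · exact .inr (by simp only [zpow_add, zpow_mul, e, one_zpow, one_mul, zpow_one])

/-- The local analysis for a 2-central involution centralized by `N(J(T))`. -/
theorem iso {T : Subgroup X} {w : X} (hT : IsSyl 2 T ⊤) (wT : w ∈ T) (ww : w * w = 1)
    (w1 : w ≠ 1) (Tw : T ≤ 𝐂[w]) (nj : 𝐍(jj T) ≤ 𝐂[w]) (hs : Group.IsSolvable 𝐂[w])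
    (ns : ¬ Group.IsSolvable X) : ∃ A g a g', P19.E2 T A (g * w * g⁻¹) a g' := by
  have nc : 𝐍(zpowers w) ≤ 𝐂(zpowers w) := fun n hn => by
    rw [cent_zpowers, mem_cent1_iff_conj]
    exact (zp2 ww ((mem_normalizer_iff.1 hn w).1 (mem_zpowers w))).resolve_left
      fun e => w1 (by simpa using e)
  have el : IsElementaryAbelian 2 (zpowers w) := elemAb_zpowers (by rw [pow_two, ww])
  have vh : P22.VH T (zpowers w) := ⟨el, hT.of_le (by rwa [cent_zpowers]) le_top,
    nj.trans ((cent_zpowers w).ge.trans (cent_le_norm _)), fun A a _ _ _ => a.trans nc,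
    fun A a _ c => (c (a.trans nc)).elim⟩
  have q2 : ¬ P22.Q2 ⊤ (zpowers w) := by
    rintro ⟨V0, -, -, h, -⟩
    have := Nat.le_of_dvd Nat.card_pos (relIndex_dvd_card V0 (zpowers w))
    rw [Nat.card_zpowers, orderOf_eq_prime (p := 2) (by rw [pow_two, ww]) w1] at this
    omega
  rcases P22.m1Stmt X _ _ vh with h | ⟨J, A, s⟩
  · refine (q2 (P22.trStmt X T _ hT (zpowers_le.2 wT) el (fun b hb g _ e => ?_)
      (H1.isSolvable_of_le (nc.trans (cent_zpowers w).le) hs) ns)).elim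
    rcases zp2 ww hb with rfl | rfl
    · simp
    · rw [← h g (by rw [← zpowers_conj, cent_zpowers]; exact zpowers_le.2 (Tw e))]
      exact conj_mem_conj hb g
  obtain ⟨g, g1, g2, i1, i2⟩ := (P22.m2Stmt X _ _ J A s).resolve_left q2
  have i3 : (zpowers w).relIndex (zpowers w ^ᵍ g) = 2 := by
    have h1 := H1.card_inf_mul_relIndex (zpowers w ^ᵍ g) (zpowers w)
    have h2 := H1.card_inf_mul_relIndex (zpowers w) (zpowers w ^ᵍ g)
    rw [card_conj, ← h1, i1, inf_comm] at h2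
    exact Nat.eq_of_mul_eq_mul_left Nat.card_pos h2
  obtain ⟨a, a1, a2⟩ := SetLike.not_le_iff_exists.1 fun e : A ≤ 𝐂(zpowers w ^ᵍ g) => by
    rw [relIndex_eq_one.2 e] at i2; omega
  refine ⟨A, g, a, P22.Tw.e2 ⟨s, g1, mt conj_eq_self_iff.1 g2, i3, i2,
    conj_mem_conj (mem_zpowers w) g, fun e => ?_, a1, a2⟩⟩
  rw [← zpowers_le, zpowers_conj, ← relIndex_eq_one] at e
  omega

/-- The product over an orbit of commuting elements. -/
theorem orb {E : Subgroup X} {z : X} (h1 : ∀ e ∈ E, e * z * e⁻¹ ∈ 𝐂[z]) (h2 : z * z ∈ 𝐂(E)) :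
    ∃ w ∈ 𝐂(E), w * w = (z * z) ^ 𝐂[z].relIndex E ∧
      ∀ H : Subgroup X, (∀ e ∈ E, e * z * e⁻¹ = z ∨ e * z * e⁻¹ ∈ H) → z⁻¹ * w ∈ H := by
  classical
  have := Fintype.ofFinite X
  let O : Finset X := Finset.univ.filter fun x => ∃ b ∈ E, b * z * b⁻¹ = x
  have mO : ∀ x, x ∈ O ↔ ∃ b ∈ E, b * z * b⁻¹ = x := fun x => by simp [O]
  have cO : (O : Set X).Pairwise (Function.onFun Commute id) := by
    intro x hx y hy _
    obtain ⟨b, hb, rfl⟩ := (mO x).1 hx
    obtain ⟨c, hc, rfl⟩ := (mO y).1 hy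
    refine mem_cent1_iff_commute.1 ?_
    have := h1 _ (mul_mem (inv_mem hb) hc)
    simp only [id]
    rw [cent1_conj, mem_conj]
    convert this using 1
    group
  have zO : z ∈ O := (mO z).2 ⟨1, one_mem _, by simp⟩
  refine ⟨O.noncommProd id cO, mem_cent_iff_cent1.2 fun b hb => ?_, ?_, fun H h => ?_⟩
  · refine mem_cent1_iff_conj.2 ?_
    have e := Finset.map_noncommProd O id cO (MulAut.conj b)
    have e' : O.map (MulAut.conj b).toEquiv.toEmbedding = O := by
      refine Finset.eq_of_subset_of_card_le (fun x hx => ?_) (by simp)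
      obtain ⟨y, hy, rfl⟩ := Finset.mem_map.1 hx
      obtain ⟨c, hc, rfl⟩ := (mO y).1 hy
      exact (mO _).2 ⟨b * c, mul_mem hb hc, by simp [mul_assoc]⟩
    refine e.trans ?_
    unfold Finset.noncommProd
    congr 1
    rw [Multiset.map_id]
    exact congrArg Finset.val e'
  · rw [← Finset.noncommProd_mul_distrib id id cO cO cO,
      Finset.noncommProd_eq_pow_card _ _ _ (z * z), ← H6.ncard_conj_orbit,
      ← Set.ncard_coe_finset]
    · congr 2
      exact Set.ext mO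
    · intro x hx
      obtain ⟨b, hb, rfl⟩ := (mO x).1 hx
      change b * z * b⁻¹ * (b * z * b⁻¹) = _
      rw [conj_mul, h2 b hb, mul_inv_cancel_right]
  · rw [← Finset.mul_noncommProd_erase O zO, id, inv_mul_cancel_left]
    refine Subgroup.noncommProd_mem _ _ fun x hx => ?_
    obtain ⟨b, hb, rfl⟩ := (mO x).1 (Finset.mem_of_mem_erase hx)
    exact (h b hb).resolve_left (Finset.ne_of_mem_erase hx)

theorem syl_map {Y : Type u} [Group Y] {p : ℕ} {T H : Subgroup X} (h : IsSyl p T H)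
    (f : X →* Y) : IsSyl p (T.map f) (H.map f) :=
  ⟨map_mono h.le, h.pgrp.map f, fun e => h.ndvd (e.trans (by
    rw [← relIndex_comap]
    exact relIndex_dvd_of_le_left _ (le_comap_map f T)))⟩

theorem solv_odd {B : Subgroup X} (ho : Odd 𝐨(B)) : Group.IsSolvable B := feit_thompson B ho

/-- Coprime action without fixed 2-elements. -/
theorem fp0 {H B T : Subgroup X} (n : B ≤ 𝐍(H)) (cop : 𝐨(B).Coprime 𝐨(H)) (ho : Odd 𝐨(B))
    (hT : IsSyl 2 T H) (nT : B ≤ 𝐍(T)) (h : T ⊓ 𝐂(B) = ⊥) : Group.IsSolvable H := by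
  haveI := Fact.mk Nat.prime_two
  refine P22.act P22.inv (H1.conjAut n) (H8.hasNPC_of_not_dvd ho.not_two_dvd_nat)
    fun t tt k => ?_
  obtain ⟨g, hg, e⟩ := H1.exists_conj_mem_centralizer n cop (.inl (solv_odd ho)) (t : X)
    fun a ha => by
      obtain ⟨g, e⟩ := k ⟨a, ha⟩
      exact ⟨g, g.2, congrArg Subtype.val e⟩
  have t2 : (g * t * g⁻¹) ^ 2 = 1 := by
    rw [pow_two, conj_mul, show (t : X) * t = 1 from congrArg Subtype.val tt]
    group
  obtain ⟨c, hc, e1⟩ := H1.exists_centralizer_conj_le_sylow n cop (.inl (solv_odd ho)) hT.le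
    hT.pgrp hT.ndvd nT (zpowers_le.2 (mul_mem (mul_mem hg t.2) (inv_mem hg)))
    (elemAb_isPGroup (elemAb_zpowers t2))
    ((cent_comm.1 (zpowers_le.2 e)).trans (cent_le_norm _))
  have := mem_bot.1 (h.le (mem_inf.2 ⟨e1 (conj_mem_conj (mem_zpowers _) c),
    mul_mem (mul_mem hc.2 e) (inv_mem hc.2)⟩))
  exact Subtype.ext (by simpa using this)

theorem fp {H B T : Subgroup X} (N : Subgroup X) [N.Normal] (hN : Group.IsSolvable N)
    (n : B ≤ 𝐍(H)) (cop : 𝐨(B).Coprime 𝐨(H)) (ho : Odd 𝐨(B))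
    (hT : IsSyl 2 T H) (nT : B ≤ 𝐍(T)) (h : T ⊓ 𝐂(B) ≤ N) : Group.IsSolvable H := by
  refine L.isSolvable_of_map_mk' N H (fp0 (B := B.map (QuotientGroup.mk' N))
    ((map_mono n).trans (le_normalizer_map _))
    ((cop.coprime_dvd_left (card_map_dvd _ _)).coprime_dvd_right (card_map_dvd _ _))
    (ho.of_dvd_nat (card_map_dvd _ _)) (syl_map hT _) ((map_mono nT).trans (le_normalizer_map _)) ?_)
  rw [H1.map_inf_centralizer_map _ nT (cop.coprime_dvd_right (Subgroup.card_dvd_of_le hT.le))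
    (.inl (solv_odd ho)), Subgroup.map_eq_bot_iff, QuotientGroup.ker_mk']
  exact h

end Cfsg.Agent.P28
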