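/-
P28: coprime action whose fixed 2-elements are 2-central and whose fixed involutions are central.
-/
import Cfsg.Agent.P28.L

set_option autoImplicit false
set_option linter.unusedSectionVars false
set_option linter.style.haveILetI false

namespace Cfsg.Agent.P28

open Subgroup Cfsg Cfsg.Agent Cfsg.Agent.FT
open Cfsg.Agent.H7.SC (oz jj)
open scoped commutatorElement

universe u

variable {X : Type u} [Group X] [Finite X]

theorem cent_mul {c s : X} (hc : c ∈ center X) : 𝐂[c * s] = 𝐂[s] := by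
  ext x
  rw [mem_cent1, mem_cent1, ← mul_assoc, mem_center_iff.1 hc x, mul_assoc, mul_assoc,
    mul_right_inj]

theorem solv_center : Group.IsSolvable (center X) :=
  Group.isSolvable_of_comm fun a b => Subtype.ext (mem_center_iff.1 b.2 a)

theorem lift {W T : Subgroup X} [W.Normal] (hW : W ≤ center X) (hT : IsSyl 2 T ⊤) {s : X}
    (Ts : T ≤ 𝐂[s]) (ss : s * s ∈ W) (g : X) {x : X}
    (h : QuotientGroup.mk' W x ∈ 𝐂[QuotientGroup.mk' W (g * s * g⁻¹)]) : x ∈ 𝐂[g * s * g⁻¹] := by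
  have k : ∀ x ∈ 𝐂[QuotientGroup.mk' W s].comap (QuotientGroup.mk' W), ⁅x, s⁆ ∈ center X :=
    fun x hx => hW (by
      rw [← QuotientGroup.ker_mk' W, MonoidHom.mem_ker, map_commutatorElement,
        commutatorElement_eq_one_iff_mul_comm]
      exact (mem_cent1.1 hx).symm)
  have e : ∀ x : X, x * s * x⁻¹ = ⁅x, s⁆ * s := fun x => by group
  have l : 𝐂[s] ≤ 𝐂[QuotientGroup.mk' W s].comap (QuotientGroup.mk' W) := fun x hx =>
    mem_cent1.2 (by rw [← map_mul, ← map_mul, mem_cent1.1 hx])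
  have := H7.SC.le_sup_syl (C := 𝐂[s]) (fun x hx => by
    rw [← conj_eq_self_iff, ← cent1_conj, e, cent_mul (k x hx)]) (hT.of_le (Ts.trans l) le_top)
    fun x hx => ⟨1, by
      have c := mem_center_iff.1 (k x hx)
      have h1 : ⁅x, s⁆ * ⁅x, s⁆ = 1 := by
        have h2 : x * (s * s) * x⁻¹ = s * s := by
          rw [mem_center_iff.1 (hW ss) x, mul_inv_cancel_right]
        rw [← conj_mul, e, mul_assoc, ← mul_assoc s, c s, mul_assoc, ← mul_assoc] at h2
        exact mul_eq_right.1 h2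
      rw [mem_cent1_iff_conj, pow_one, pow_two]
      calc _ = x * (x * s * x⁻¹) * x⁻¹ := by group
        _ = ⁅x, s⁆ * (x * s * x⁻¹) := by rw [e, ← mul_assoc, c x]; group
        _ = s := by rw [e, ← mul_assoc, h1, one_mul]⟩
  rw [sup_eq_right.2 Ts] at this
  rw [cent1_conj, mem_conj]
  refine this ?_
  rw [map_mul, map_mul, map_inv, cent1_conj, mem_conj] at h
  simpa using h

theorem dc_step {G B T : Subgroup X} [G.Normal] (top : G ⊔ B = ⊤) (ho : Odd 𝐨(B))
    (hT : IsSyl 2 T ⊤) (nT : B ≤ 𝐍(T))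
    (h2 : ∀ t ∈ G ⊓ 𝐂(B), t * t = 1 → t ∈ 𝐂(G)) {s : X} (sG : s ∈ G) (sT : s ∈ T) (sB : s ∈ 𝐂(B))
    (Ts : T ≤ 𝐂[s]) (s1 : s ∉ center X) (ss : s * s ∈ center X) (hs : Group.IsSolvable 𝐂[s]) :
    Group.IsSolvable X := by
  by_contra ns
  have hc : ∀ t ∈ G, t ∈ 𝐂(B) → t * t = 1 → t ∈ center X := fun t a b c =>
    mem_center_iff.2 fun x => (mem_cent1.1 ((sup_le (mem_cent_iff_cent1.1 (h2 t ⟨a, b⟩ c))
      (mem_cent_iff_cent1.1 b)) (top.ge (mem_top x)))).symm
  let π := QuotientGroup.mk' (center X)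
  have hπ : Function.Surjective π := QuotientGroup.mk'_surjective _
  have k1 : ∀ x, π x = 1 ↔ x ∈ center X := fun x => QuotientGroup.eq_one_iff x
  have K := fun g x => lift (x := x) le_rfl hT Ts ss g
  have K1 : ∀ x, π x ∈ 𝐂[π s] → x ∈ 𝐂[s] := fun x h => by
    have := K 1 x
    rw [one_mul, inv_one, mul_one] at this
    exact this h
  have hT' : IsSyl 2 (T.map π) ⊤ := map_top_of_surjective π hπ ▸ syl_map hT π
  have ww : π s * π s = 1 := by rw [← map_mul, k1]; exact ss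
  have Tw : T.map π ≤ 𝐂[π s] := by
    rintro _ ⟨x, hx, rfl⟩
    exact mem_cent1.2 (by rw [← map_mul, ← map_mul, mem_cent1.1 (Ts hx)])
  have nB : B ≤ 𝐍(T.map π).comap π := map_le_iff_le_comap.1 ((map_mono nT).trans (le_normalizer_map _))
  have nj : 𝐍(jj (T.map π)) ≤ 𝐂[π s] := by
    have NJ : 𝐍(T.map π) ≤ 𝐍(jj (T.map π)) := H5.normalizer_le_normalizer_thompsonSubgroupOf _
    have wj : π s ∈ jj (T.map π) := zpowers_le.1 (P19.le_jj (elemAb_zpowers (by rw [pow_two, ww]))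
      (zpowers_le.2 (mem_map_of_mem π sT))
      (zpowers_le.2 (mem_cent_iff_cent1.2 ((P19.jj_le _).trans Tw))))
    obtain ⟨w, w1, w2, w3⟩ := orb (E := 𝐍(jj (T.map π)).comap π) (z := s) (fun e he => K1 _ (by
      rw [map_mul, map_mul, map_inv]
      exact Tw (P19.jj_le _ ((mem_normalizer_iff.1 he _).1 wj))))
      fun e _ => mem_center_iff.1 ss e
    obtain ⟨k, hk⟩ : Odd (𝐂[s].relIndex (𝐍(jj (T.map π)).comap π)) := by
      rw [← Nat.not_even_iff_odd, even_iff_two_dvd]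
      exact fun e => (hT.of_le (map_le_iff_le_comap.1 ((le_norm_self _).trans NJ)) le_top).ndvd
        (e.trans (relIndex_dvd_of_le_left _ Ts))
    have wG : w ∈ G := (mul_mem_cancel_left (inv_mem sG)).1
      (w3 G fun e _ => .inr (Normal.conj_mem inferInstance s sG e))
    have ws : w ∈ 𝐂[s] := (mul_mem_cancel_left (inv_mem (self_mem_cent1 s))).1
      (w3 _ fun e he => .inr (K1 _ (by
        rw [map_mul, map_mul, map_inv]
        exact Tw (P19.jj_le _ ((mem_normalizer_iff.1 he _).1 wj)))))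
    have u := hc (w * (s ^ (2 * k + 1))⁻¹) (mul_mem wG (inv_mem (pow_mem sG _)))
      (mul_mem (cent_anti (nB.trans (comap_mono NJ)) w1) (inv_mem (pow_mem sB _))) (by
        have c : Commute w (s ^ (2 * k + 1))⁻¹ :=
          ((mem_cent1_iff_commute.1 ws).symm.pow_right _).inv_right
        rw [← pow_two, c.mul_pow, pow_two w, w2, hk, ← pow_two, inv_pow, ← pow_mul, ← pow_mul,
          mul_comm 2, mul_inv_cancel])
    intro e he
    obtain ⟨e, rfl⟩ := hπ e
    have h3 : s ∈ 𝐂(𝐍(jj (T.map π)).comap π) := by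
      have cz : center X ≤ 𝐂(𝐍(jj (T.map π)).comap π) := center_le_centralizer _
      have := (mul_mem_cancel_left w1).1 (cz u)
      rw [inv_mem_iff, pow_succ, pow_mul, pow_two] at this
      exact (mul_mem_cancel_left (pow_mem (cz ss) k)).1 this
    exact mem_cent1.2 (by rw [← map_mul, ← map_mul, h3 e he])
  obtain ⟨A, g, a, g', e2⟩ := iso hT' (mem_map_of_mem π sT) ww (mt (k1 s).1 s1) Tw nj
    (H1.isSolvable_of_le (show _ ≤ 𝐂[s].map π from fun x hx => by
      obtain ⟨x, rfl⟩ := hπ x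
      exact mem_map_of_mem π (K1 x hx)) (L.isSolvable_map _ _))
    fun e => ns (L.isSolvable_of_normal_of_quotient (center X) solv_center e)
  obtain ⟨H, z0, o⟩ := e2_out e2
  obtain ⟨g, rfl⟩ := hπ g
  obtain ⟨a, rfl⟩ := hπ a
  rw [← map_inv, ← map_mul, ← map_mul, ← map_commutatorElement] at z0 o
  have ez : ⁅g * s * g⁻¹, a⁆ = g * s * g⁻¹ * (a * g * s * (a * g)⁻¹)⁻¹ := by group
  have sq : ∀ x : X, x * s * x⁻¹ * (x * s * x⁻¹) = s * s := fun x => by
    rw [conj_mul, mem_center_iff.1 ss x, mul_inv_cancel_right]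
  have cz : ∀ x, π x ∈ 𝐂[π (g * s * g⁻¹)] → π x ∈ 𝐂[π ⁅g * s * g⁻¹, a⁆] →
      x ∈ 𝐂[⁅g * s * g⁻¹, a⁆] := fun x h3 h4 => by
    rw [mem_cent1_comm] at h3 h4 ⊢
    rw [ez, map_mul, map_inv, mul_mem_cancel_left h3, inv_mem_iff, mem_cent1_comm] at h4
    rw [ez]
    exact mul_mem (mem_cent1_comm.1 (K g x (mem_cent1_comm.1 h3)))
      (inv_mem (mem_cent1_comm.1 (K _ x h4)))
  have zz : ⁅g * s * g⁻¹, a⁆ * ⁅g * s * g⁻¹, a⁆ = 1 := by
    have h3 := (o 1 (one_mem _)).1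
    rw [one_mul, inv_one, mul_one] at h3
    have h4 := K g _ h3
    rw [ez, mul_mem_cancel_left (self_mem_cent1 _)] at h4
    rw [ez, ← pow_two, (mem_cent1_iff_commute.1 h4).mul_pow, inv_pow, pow_two, pow_two, sq, sq,
      mul_inv_cancel]
  have zG : ⁅g * s * g⁻¹, a⁆ ∈ G := ez ▸ mul_mem (Normal.conj_mem inferInstance s sG g)
    (inv_mem (Normal.conj_mem inferInstance s sG _))
  generalize ⁅g * s * g⁻¹, a⁆ = z at z0 o cz zz zG
  have c1 : ∀ b ∈ B, b * z * b⁻¹ ∈ 𝐂[z] := fun b hb => cz _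
    (by rw [map_mul, map_mul, map_inv]; exact (o _ (nB hb)).1)
    (by rw [map_mul, map_mul, map_inv]; exact (o _ (nB hb)).2.1)
  obtain ⟨w, w1, w2, w3⟩ := orb c1 (zz ▸ one_mem _)
  rw [zz, one_pow] at w2
  have wG : w ∈ G := (mul_mem_cancel_left (inv_mem zG)).1
    (w3 G fun e _ => .inr (Normal.conj_mem inferInstance z zG e))
  have h5 := w3 (H.comap π) fun b hb => (o _ (nB hb)).2.2.imp (fun e => ?_) fun e => by
    rwa [mem_comap, map_mul, map_mul, map_inv]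
  · rw [mem_comap, map_mul, (k1 w).2 (hc w wG w1 w2), mul_one, map_inv, inv_mem_iff] at h5
    exact z0 h5
  have h6 : ⁅b, z⁆ ∈ center X := (k1 _).1 (by
    rw [commutatorElement_def, map_mul, map_mul, map_mul, map_inv, map_inv, e, mul_inv_cancel])
  have h7 : ∀ x : X, x * z * x⁻¹ = ⁅x, z⁆ * z := fun x => by group
  have h8 : ⁅b, z⁆ * ⁅b, z⁆ = 1 := by
    have h9 : b * z * b⁻¹ * (b * z * b⁻¹) = 1 := by rw [conj_mul, zz]; group
    rwa [h7, mul_assoc, ← mul_assoc z, mem_center_iff.1 h6 z, mul_assoc, zz, mul_one] at h9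
  refine mem_cent1_iff_conj.1 (P22.SQ.mem_of_sq (P22.SQ.odd_orderOf ho hb) ?_)
  rw [mem_cent1_iff_conj]
  calc _ = b * (b * z * b⁻¹) * b⁻¹ := by group
    _ = ⁅b, z⁆ * (b * z * b⁻¹) := by rw [h7, ← mul_assoc, mem_center_iff.1 h6 b]; group
    _ = z := by rw [h7, ← mul_assoc, h8, one_mul]

theorem dc (X : Type u) [Group X] [Finite X] : ∀ (G B T : Subgroup X), G.Normal → G ⊔ B = ⊤ →
    𝐨(B).Coprime 𝐨(G) → Odd 𝐨(B) → IsSyl 2 T G → B ≤ 𝐍(T) → T ⊓ 𝐂(B) ≤ 𝐂(T) →
    (∀ t ∈ G ⊓ 𝐂(B), t * t = 1 → t ∈ 𝐂(G)) → Group.IsSolvable X := by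
  induction hn : Nat.card X using Nat.strong_induction_on generalizing X with
  | _ n ih =>
  intro G B T hG top cop ho hT nT h1 h2
  by_cases e : T ⊓ 𝐂(B) ≤ center X
  · have := L.isSolvable_sup_of_normal B G (solv_odd ho)
      (fp _ solv_center le_normalizer_of_normal cop ho hT nT e)
    rw [sup_comm, top] at this
    exact L.isSolvable_of_mulEquiv topEquiv
  obtain ⟨s, hs, s1, ss, -⟩ := P22.N4.central (hT.pgrp.to_le inf_le_left) le_rfl (le_norm_self _) e
  have Ts : T ≤ 𝐂[s] := mem_cent_iff_cent1.1 (h1 hs)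
  have Bs : B ≤ 𝐂[s] := mem_cent_iff_cent1.1 hs.2
  refine dc_step top ho (hT.trans Nat.prime_two le_top fun d => ho.not_two_dvd_nat (d.trans ?_))
    nT h2 (hT.le hs.1) hs.1 hs.2 Ts s1 ss ?_
  · rw [← top, relIndex_sup_left]
    exact relIndex_dvd_card _ _
  have hf := 𝐂[s].subtype_injective
  have mT : (T.subgroupOf 𝐂[s]).map 𝐂[s].subtype = T := by
    rw [subgroupOf_map_subtype, inf_eq_left.2 Ts]
  have mB : (B.subgroupOf 𝐂[s]).map 𝐂[s].subtype = B := by
    rw [subgroupOf_map_subtype, inf_eq_left.2 Bs]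
  have cB : 𝐨(B.subgroupOf 𝐂[s]) = 𝐨(B) := by rw [← card_map_of_injective hf, mB]
  refine ih _ (hn ▸ L.card_lt_of_ne_top fun e => s1 (mem_center_iff.2 fun x =>
    (mem_cent1.1 (e.ge (mem_top x))).symm)) 𝐂[s] rfl (G.subgroupOf _) (B.subgroupOf _)
    (T.subgroupOf _) inferInstance (eq_top_iff.2 fun x _ => ?_) ?_ (cB ▸ ho)
    ((isSyl_map_iff hf).1 ?_) ((map_le_norm_iff hf).1 (by rwa [mB, mT])) (fun x hx => ?_)
    fun t ht tt => ?_
  · obtain ⟨g, hg, b, hb, e⟩ := (mem_sup_of_norm le_normalizer_of_normal).1 (top.ge (mem_top x.1))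
    have gs : g ∈ 𝐂[s] := (mul_mem_cancel_right (Bs hb)).1 (e ▸ x.2)
    rw [show x = ⟨g, gs⟩ * ⟨b, Bs hb⟩ from Subtype.ext e.symm]
    exact mul_mem (mem_sup_left hg) (mem_sup_right hb)
  · rw [cB, ← card_map_of_injective hf, subgroupOf_map_subtype]
    exact cop.coprime_dvd_right (Subgroup.card_dvd_of_le inf_le_left)
  · rw [mT, subgroupOf_map_subtype]
    exact hT.of_le (le_inf hT.le Ts) inf_le_left
  · rw [← P22.GG.mc hf, mT]
    exact h1 ⟨hx.1, by have := (P22.GG.mc hf).2 hx.2; rwa [mB] at this⟩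
  · rw [← P22.GG.mc hf, subgroupOf_map_subtype]
    exact cent_anti inf_le_left (h2 t ⟨ht.1, by have := (P22.GG.mc hf).2 ht.2; rwa [mB] at this⟩
      (congrArg Subtype.val tt))

end Cfsg.Agent.P28
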