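/-
P28: class sizes of fixed elements.
-/
import Cfsg.Agent.P28.DC
import Cfsg.Agent.H9.ClassSize
import Cfsg.Agent.H9.FixCount
import Cfsg.Agent.H6.Induction

set_option autoImplicit false
set_option linter.unusedSectionVars false
set_option linter.style.haveILetI false

namespace Cfsg.Agent.P28

open Subgroup Cfsg Cfsg.Agent Cfsg.Agent.FT
open scoped commutatorElement Pointwise

universe u

variable {X : Type u} [Group X] [Finite X] {G : Subgroup X}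

theorem ri_dvd {N H : Subgroup X} (hN : N ⊲ H) (C : Subgroup X) :
    C.relIndex N ∣ C.relIndex H := by
  have := H1.normal_subgroupOf_of_le hN.2
  have h := H9.relIndex_dvd_index_of_normal_right (C.subgroupOf H) (N.subgroupOf H)
  rwa [relIndex_subgroupOf hN.1] at h

theorem fac {x y g : X} (cp : (𝐂[x].relIndex G).Coprime (𝐂[y].relIndex G)) (hg : g ∈ G) :
    ∃ c ∈ G ⊓ 𝐂[x], ∃ d ∈ G ⊓ 𝐂[y], c * d = g := by
  obtain ⟨c, hc, d, hd, e⟩ := H9.exists_mul_eq_of_coprime_index (G := G) cp ⟨g, hg⟩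
  exact ⟨c, ⟨c.2, hc⟩, d, ⟨d.2, hd⟩, congrArg Subtype.val e⟩

theorem sub {x b g : X} (cp : (𝐂[x].relIndex G).Coprime (𝐂[b].relIndex G)) (hg : g ∈ G) :
    (g * x * g⁻¹) • {z : X | ∃ n ∈ G, n * b * n⁻¹ = z} ⊆
      {z : X | ∃ n ∈ G, n * (x * b) * n⁻¹ = z} := by
  rintro _ ⟨_, ⟨t, ht, rfl⟩, rfl⟩
  obtain ⟨c, hc, d, hd, he⟩ := fac cp (mul_mem (inv_mem hg) ht)
  refine ⟨g * c, mul_mem hg hc.1, ?_⟩
  have e : t = g * (c * d) := by rw [he]; group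
  rw [e]
  simp only [smul_eq_mul]
  calc g * c * (x * b) * (g * c)⁻¹ = g * (c * x) * ((b * d) * d⁻¹) * (g * c)⁻¹ := by group
    _ = _ := by rw [← mem_cent1.1 hc.2, mem_cent1.1 hd.2]; group

theorem ge {x b : X} (cp : (𝐂[x].relIndex G).Coprime (𝐂[b].relIndex G)) :
    𝐂[b].relIndex G ≤ 𝐂[x * b].relIndex G := by
  have := Set.ncard_le_ncard (sub cp (one_mem G)) (Set.toFinite _)
  rwa [Set.ncard_smul_set, H6.ncard_conj_orbit, H6.ncard_conj_orbit] at this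

theorem stab {x b : X} (xG : x ∈ G) (cp : (𝐂[x].relIndex G).Coprime (𝐂[b].relIndex G))
    (le : 𝐂[x * b].relIndex G ≤ 𝐂[b].relIndex G) :
    ∃ N : Subgroup X, N ⊲ G ∧ 𝐨(N) ∣ 𝐂[b].relIndex G ∧ ∀ g ∈ G, ⁅g, x⁆ ∈ N := by
  have e : ∀ g ∈ G, (g * x * g⁻¹) • {z : X | ∃ n ∈ G, n * b * n⁻¹ = z} =
      {z : X | ∃ n ∈ G, n * (x * b) * n⁻¹ = z} := fun g hg =>
    Set.eq_of_subset_of_ncard_le (sub cp hg) (by
      rwa [Set.ncard_smul_set, H6.ncard_conj_orbit, H6.ncard_conj_orbit]) (Set.toFinite _)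
  refine ⟨G ⊓ MulAction.stabilizer X {z : X | ∃ n ∈ G, n * (x * b) * n⁻¹ = z},
    ⟨inf_le_left, fun g hg => mem_norm_of_conj_le fun k hk => ?_⟩, ?_, fun g hg =>
    mem_inf.2 ⟨mul_mem (mul_mem (mul_mem hg xG) (inv_mem hg)) (inv_mem xG), ?_⟩⟩
  · obtain ⟨k, hk', rfl⟩ := mem_conj'.1 hk
    refine mem_inf.2 ⟨mul_mem (mul_mem hg hk'.1) (inv_mem hg), MulAction.mem_stabilizer_iff.2 ?_⟩
    refine Set.eq_of_subset_of_ncard_le ?_ (by rw [Set.ncard_smul_set]) (Set.toFinite _)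
    rintro _ ⟨_, ⟨n, hn, rfl⟩, rfl⟩
    obtain ⟨m, hm, e1⟩ := (MulAction.mem_stabilizer_iff.1 hk'.2).le
      (Set.smul_mem_smul_set (a := k) ⟨g⁻¹ * n, mul_mem (inv_mem hg) hn, rfl⟩)
    refine ⟨g * m, mul_mem hg hm, ?_⟩
    simp only [smul_eq_mul] at e1 ⊢
    calc _ = g * (m * (x * b) * m⁻¹) * g⁻¹ := by group
      _ = _ := by rw [e1]; group
  · rw [le_antisymm (ge cp) le, ← H6.ncard_conj_orbit]
    refine H9.dvd_ncard_of_invariant' (G := X)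
      (G ⊓ MulAction.stabilizer X {z : X | ∃ n ∈ G, n * (x * b) * n⁻¹ = z}) _
      (fun k hk z hz => ?_) fun z _ => ?_
    · rw [← MulAction.mem_stabilizer_iff.1 hk.2]
      exact Set.smul_mem_smul_set hz
    · rw [show MulAction.stabilizer X z = ⊥ from IsCancelSMul.stabilizer_eq_bot _, relIndex_bot_left]
  · have e1 := e 1 (one_mem G)
    rw [one_mul, inv_one, mul_one] at e1
    refine MulAction.mem_stabilizer_iff.2 ?_
    rw [commutatorElement_def, mul_smul, ← e1, inv_smul_smul, e g hg, e1]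

theorem cent_le {N : Subgroup X} {x : X} (hN : N ⊲ G) (h : ∀ g ∈ G, ⁅g, x⁆ ∈ N)
    (cp : (𝐂[x].relIndex G).Coprime 𝐨(N)) : G ⊓ 𝐂(N) ≤ 𝐂[x] := by
  have h' : ∀ k ∈ G ⊓ 𝐂(N), ⁅x, k⁆ ∈ N := fun k hk => by
    rw [← commutatorElement_inv]
    exact inv_mem (h k hk.1)
  let f : (G ⊓ 𝐂(N) : Subgroup X) →* X := MonoidHom.mk' (fun k => ⁅x, (k : X)⁆) fun k l => by
    rw [coe_mul, P19.K.br_mul, ← k.2.2 _ (h' l l.2), mul_inv_cancel_right]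
  have e : f.ker = 𝐂[x].subgroupOf (G ⊓ 𝐂(N)) := Subgroup.ext fun k => P19.K.br1
  rw [← relIndex_eq_one]
  refine Nat.eq_one_of_dvd_coprimes cp (ri_dvd ⟨inf_le_left, H1.le_normalizer_inf
    (le_norm_self G) (H1.le_normalizer_centralizer hN.2)⟩ _) ?_
  rw [relIndex, ← e, index_ker]
  refine Subgroup.card_dvd_of_le ?_
  rintro _ ⟨k, rfl⟩
  exact h' k k.2

/-- The hypothesis. -/
structure Sp (G B : Subgroup X) (U V : Set X) (m : X) : Prop where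
  nrm : G.Normal
  top : G ⊔ B = ⊤
  cop : 𝐨(B).Coprime 𝐨(G)
  odd : Odd 𝐨(B)
  cov : ∀ c, c ∈ U ∨ c ∈ V ↔ c ∈ G ⊓ 𝐂(B) ∧ c ∉ 𝐂(G)
  cp : ∀ x ∈ U, ∀ y ∈ V, (𝐂[x].relIndex G).Coprime (𝐂[y].relIndex G)
  ne : U.Nonempty
  mV : m ∈ V
  mx : ∀ c ∈ G ⊓ 𝐂(B), 𝐂[c].relIndex G ≤ 𝐂[m].relIndex G

/-- The kernel of the action on the classes of `U`. -/
def kk (G : Subgroup X) (U : Set X) : Subgroup X :=
  G ⊓ centralizer {z | ∃ x ∈ U, ∃ g ∈ G, g * x * g⁻¹ = z}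

namespace Sp

variable {B : Subgroup X} {U V : Set X} {m : X} (s : Sp G B U V m)
include s

theorem u {x : X} (h : x ∈ U) : x ∈ G ⊓ 𝐂(B) ∧ x ∉ 𝐂(G) := (s.cov x).1 (.inl h)

theorem v {x : X} (h : x ∈ V) : x ∈ G ⊓ 𝐂(B) ∧ x ∉ 𝐂(G) := (s.cov x).1 (.inr h)

theorem nG {K : Subgroup X} : K ≤ 𝐍(G) := haveI := s.nrm; le_normalizer_of_normal

theorem exN {x : X} (h : x ∈ U) :
    ∃ N : Subgroup X, N ⊲ G ∧ 𝐨(N) ∣ 𝐂[m].relIndex G ∧ ∀ g ∈ G, ⁅g, x⁆ ∈ N :=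
  stab (s.u h).1.1 (s.cp x h m s.mV) (s.mx _ (mul_mem (s.u h).1 (s.v s.mV).1))

theorem comm {x x' g : X} (h : x ∈ U) (h' : x' ∈ U) (hg : g ∈ G) : g * x' * g⁻¹ ∈ 𝐂[x] := by
  obtain ⟨N, n1, n2, n3⟩ := s.exN h
  refine cent_le n1 n3 ((s.cp x h m s.mV).coprime_dvd_right n2)
    (mem_inf.2 ⟨mul_mem (mul_mem hg (s.u h').1.1) (inv_mem hg), mem_cent_iff_cent1.2 ?_⟩)
  rw [cent1_conj, ← conj_eq_of_mem_norm (n1.2 hg)]
  exact conj_mono (relIndex_eq_one.1 (Nat.eq_one_of_dvd_coprimes (s.cp x' h' m s.mV)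
    (ri_dvd n1 _) ((relIndex_dvd_card _ _).trans n2))) g

theorem nK : (kk G U).Normal := by
  haveI := s.nrm
  refine normal_inf_normal _ _ (hK := ⟨fun k hk h => ?_⟩)
  rintro _ ⟨x, hx, g, hg, rfl⟩
  obtain ⟨a, ha, b, hb, e⟩ := (mem_sup_of_norm s.nG).1 (s.top.ge (mem_top h⁻¹))
  have := hk _ ⟨x, hx, a * (b * g * b⁻¹), mul_mem ha (s.nrm.conj_mem g hg b), rfl⟩
  have e1 : a * (b * g * b⁻¹) * x * (a * (b * g * b⁻¹))⁻¹ = h⁻¹ * (g * x * g⁻¹) * h := by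
    calc _ = a * b * g * (b⁻¹ * x) * b * g⁻¹ * (a * b)⁻¹ := by group
      _ = _ := by rw [(s.u hx).1.2 _ (inv_mem hb), e]; group
  rw [e1] at this
  calc _ = h * (h⁻¹ * (g * x * g⁻¹) * h * k) * h⁻¹ := by group
    _ = _ := by rw [this]; group

theorem nL : 𝐙(kk G U).Normal :=
  haveI := s.nK
  normal_inf_normal _ _ (hK := normalizer_eq_top_iff.1 (eq_top_iff.2
    (H1.le_normalizer_centralizer le_normalizer_of_normal)))

theorem uL {x : X} (h : x ∈ U) : x ∈ 𝐙(kk G U) := by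
  refine ⟨⟨(s.u h).1.1, ?_⟩, fun k hk => (hk.2 x ⟨x, h, 1, one_mem _, by group⟩).symm⟩
  rintro _ ⟨x', h', g, hg, rfl⟩
  exact (mem_cent1.1 (s.comm h h' hg)).symm

omit s in
theorem zL {x : X} (h : x ∈ G) (h' : x ∈ 𝐂(G)) (hU : U ⊆ G) : x ∈ 𝐙(kk G U) := by
  refine ⟨⟨h, ?_⟩, cent_anti inf_le_left h'⟩
  rintro _ ⟨x', h1, g, hg, rfl⟩
  exact h' _ (mul_mem (mul_mem hg (hU h1)) (inv_mem hg))

theorem mulV {x y : X} (hx : x ∈ U) (hy : y ∈ V) : x * y ∈ V := by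
  have c := s.cp x hx y hy
  refine ((s.cov _).2 ⟨mul_mem (s.u hx).1 (s.v hy).1, fun e => (s.v hy).2 ?_⟩).resolve_left
    fun e => (s.v hy).2 ?_
  · have h := ge c
    rw [relIndex_eq_one.2 (mem_cent_iff_cent1.1 e)] at h
    exact mem_cent_iff_cent1.2 (relIndex_eq_one.1 (le_antisymm h (H2.relIndex_pos _ _)))
  have xG := (s.u hx).1.1
  obtain ⟨N, -, n2, n3⟩ := stab (s.v hy).1.1 c.symm (by
    rw [show y * x = x⁻¹ * (x * y) * x⁻¹⁻¹ by group, cent1_conj,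
      ← conj_eq_of_mem (inv_mem xG), relIndex_conj, conj_eq_of_mem (inv_mem xG)]
    refine Nat.le_of_dvd (H2.relIndex_pos _ _) ((s.cp _ e y hy).dvd_of_dvd_mul_right ?_)
    refine Dvd.dvd.trans ?_ (H9.index_inf_of_coprime (G := G) c).dvd
    exact index_dvd_of_le fun k hk => mem_cent1_comm.1
      (mul_mem (mem_cent1_comm.1 hk.1) (mem_cent1_comm.1 hk.2)))
  intro g hg
  have p : ∀ w ∈ U, ⁅g, w⁆ ^ 𝐂[m].relIndex G = 1 := fun w hw => by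
    obtain ⟨N, -, n2, n3⟩ := s.exN hw
    exact orderOf_dvd_iff_pow_eq_one.1 ((N.orderOf_dvd_natCard (n3 g hg)).trans n2)
  have q : ∀ w ∈ U, ⁅g, w⁆ ∈ 𝐙(kk G U) := fun w hw =>
    mul_mem (s.nL.conj_mem _ (s.uL hw) g) (inv_mem (s.uL hw))
  have e1 : ⁅g, y⁆ = ⁅g, x * y⁆ * ⁅g, x⁆⁻¹ := by
    have a := s.nL.conj_mem _ (s.uL hx) g
    calc ⁅g, y⁆ = (g * x * g⁻¹)⁻¹ * ⁅g, x * y⁆ * x := by
          simp only [commutatorElement_def]; group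
      _ = ⁅g, x * y⁆ * ((g * x * g⁻¹)⁻¹ * x) := by rw [(q _ e).2 _ (inv_mem a).1, mul_assoc]
      _ = _ := by rw [(s.uL hx).2 _ (inv_mem a).1, commutatorElement_def g x]; group
  refine commutatorElement_eq_one_iff_mul_comm.1 (orderOf_eq_one_iff.1
    (Nat.eq_one_of_dvd_coprimes (s.cp x hx m s.mV)
      ((N.orderOf_dvd_natCard (n3 g hg)).trans n2) (orderOf_dvd_iff_pow_eq_one.2 ?_)))
  have cm : Commute ⁅g, x * y⁆ ⁅g, x⁆⁻¹ := (inv_mem (q _ hx)).2 _ (q _ e).1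
  rw [e1, cm.mul_pow, inv_pow, p _ e, p _ hx, inv_one, mul_one]

end Sp

end Cfsg.Agent.P28
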