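/-
P28: the two families of classes force solvability.
-/
import Cfsg.Agent.P28.G

set_option autoImplicit false
set_option linter.unusedSectionVars false
set_option linter.style.haveILetI false

namespace Cfsg.Agent.P28

open Subgroup Cfsg Cfsg.Agent Cfsg.Agent.FT
open scoped commutatorElement

universe u

variable {X : Type u} [Group X] [Finite X] {G : Subgroup X}

namespace Sp

variable {B : Subgroup X} {U V : Set X} {m : X} (s : Sp G B U V m)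
include s

theorem syl {q : ℕ} (hq : q.Prime) {y : X} (hy : y ∈ 𝐂(B)) (h : ¬ q ∣ 𝐂[y].relIndex G) :
    ∃ P, IsSyl q P G ∧ B ≤ 𝐍(P) ∧ y ∈ 𝐂(P) := by
  obtain ⟨P, p1, -, p2⟩ := exists_invariant_isSyl hq (K := G ⊓ 𝐂[y]) (Q := ⊥)
    (H1.le_normalizer_inf s.nG ((mem_cent_iff_cent1.1 hy).trans (le_norm_self _)))
    (s.cop.coprime_dvd_right (Subgroup.card_dvd_of_le inf_le_left)) (.inl (solv_odd s.odd))
    IsPGroup.of_bot bot_le (le_top.trans norm_bot.ge)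
  exact ⟨P, p1.trans hq inf_le_left (by rwa [inf_relIndex_left]), p2,
    mem_cent_iff_cent1.2 (p1.le.trans inf_le_right)⟩

theorem into {q : ℕ} (hq : q.Prime) {Q : Subgroup X} (hQ : IsSyl q Q G) (nQ : B ≤ 𝐍(Q)) {y : X}
    (hy : y ∈ 𝐂(B)) (h : ¬ q ∣ 𝐂[y].relIndex G) : ∃ c ∈ G ⊓ 𝐂(B), c * y * c⁻¹ ∈ 𝐂(Q) := by
  haveI := Fact.mk hq
  obtain ⟨P, p1, p2, p3⟩ := s.syl hq hy h
  obtain ⟨c, hc, e⟩ := H1.invariant_sylow_conj s.nG s.cop (.inl (solv_odd s.odd)) hQ.le hQ.pgrp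
    hQ.ndvd nQ p1.le p1.pgrp p1.ndvd p2
  refine ⟨c, hc, ?_⟩
  rw [← show P ^ᵍ c = Q from e, cent_conj]
  exact conj_mem_conj p3 c

theorem tri {c : X} (hc : c ∈ G ⊓ 𝐂(B)) : c ∈ 𝐙(kk G U) ∨ c ∈ V := by
  by_cases h : c ∈ 𝐂(G)
  · exact .inl (zL hc.1 h fun _ hx => (s.u hx).1.1)
  · exact ((s.cov c).2 ⟨hc, h⟩).imp_left s.uL

theorem nD : G ⊓ 𝐂(B) ≤ 𝐍((𝐙(kk G U) ⊓ 𝐂(B) : Subgroup X)) :=
  haveI := s.nL
  H1.le_normalizer_inf le_normalizer_of_normal (inf_le_right.trans (le_norm_self _))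

theorem jor {q : ℕ} (hq : q.Prime) {Q : Subgroup X} (hQ : IsSyl q Q G) (nQ : B ≤ 𝐍(Q))
    (h : ∀ y ∈ V, ¬ q ∣ 𝐂[y].relIndex G) {c : X} (hc : c ∈ G ⊓ 𝐂(B)) :
    ∃ u ∈ 𝐂(Q), ∃ d ∈ 𝐙(kk G U) ⊓ 𝐂(B), u * d = c := by
  have := H6.eq_top_of_forall_exists_conj_mem
    ((𝐙(kk G U) ⊓ 𝐂(B) ⊔ G ⊓ 𝐂(B) ⊓ 𝐂(Q)).subgroupOf (G ⊓ 𝐂(B))) fun g => by
      rcases s.tri g.2 with e | e
      · exact ⟨1, by
          rw [inv_one, one_mul, mul_one]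
          exact mem_subgroupOf.2 (mem_sup_left (mem_inf.2 ⟨e, g.2.2⟩))⟩
      · obtain ⟨c, hc, e1⟩ := s.into hq hQ nQ g.2.2 (h g e)
        refine ⟨⟨c, hc⟩⁻¹, mem_subgroupOf.2 (mem_sup_right (mem_inf.2 ⟨Subtype.property _, ?_⟩))⟩
        simpa using e1
  obtain ⟨u, hu, d, hd, e⟩ := (mem_sup_of_norm' (inf_le_left.trans s.nD)).1
    (subgroupOf_eq_top.1 this hc)
  exact ⟨u, hu.2, d, hd, e⟩

theorem into' {q : ℕ} (hq : q.Prime) {Q : Subgroup X} (hQ : IsSyl q Q G) (nQ : B ≤ 𝐍(Q))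
    (h : ∀ y ∈ V, ¬ q ∣ 𝐂[y].relIndex G) {y : X} (hy : y ∈ V) :
    ∃ d ∈ 𝐙(kk G U) ⊓ 𝐂(B), d * y * d⁻¹ ∈ 𝐂(Q) := by
  obtain ⟨c, hc, e⟩ := s.into hq hQ nQ (s.v hy).1.2 (h y hy)
  obtain ⟨u, hu, d, hd, rfl⟩ := s.jor hq hQ nQ h hc
  refine ⟨d, hd, ?_⟩
  have := mul_mem (mul_mem (inv_mem hu) e) hu
  rwa [show u⁻¹ * (u * d * y * (u * d)⁻¹) * u = d * y * d⁻¹ by group] at this

theorem nc {x y : X} (hx : x ∈ U) (hy : y ∈ V) : y ∉ 𝐂[x] := by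
  intro xy
  obtain ⟨q, hq, qx⟩ := Nat.exists_prime_and_dvd (n := 𝐂[x].relIndex G) fun e =>
    (s.u hx).2 (mem_cent_iff_cent1.2 (relIndex_eq_one.1 e))
  have h : ∀ y ∈ V, ¬ q ∣ 𝐂[y].relIndex G := fun y hy e =>
    hq.one_lt.ne' (Nat.eq_one_of_dvd_coprimes (s.cp x hx y hy) qx e)
  obtain ⟨Q, hQ, nQ, yQ⟩ := s.syl hq (s.v hy).1.2 (h y hy)
  have I := fun y hy => s.into' hq hQ nQ h (y := y) hy
  have n := s.nD (s.v hy).1
  have xD : x ∈ 𝐙(kk G U) ⊓ 𝐂(B) := ⟨s.uL hx, (s.u hx).1.2⟩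
  have ab : ∀ a ∈ 𝐙(kk G U) ⊓ 𝐂(B), ∀ b ∈ 𝐙(kk G U) ⊓ 𝐂(B), a * b = b * a :=
    fun a ha b hb => hb.1.2 a ha.1.1
  have DC : 𝐙(kk G U) ⊓ 𝐂(B) ≤ G ⊓ 𝐂(B) := inf_le_inf_right _ (inf_le_left.trans inf_le_left)
  generalize 𝐙(kk G U) ⊓ 𝐂(B) = D at I n xD ab DC
  have b : ∀ d ∈ D, ⁅d, y⁆ ∈ D := fun d hd => by
    rw [show ⁅d, y⁆ = d * (y * d⁻¹ * y⁻¹) by group]
    exact mul_mem hd ((mem_normalizer_iff.1 n _).1 (inv_mem hd))
  let f : D →* D := MonoidHom.mk' (fun d => ⟨⁅(d : X), y⁆, b d d.2⟩) fun d e => Subtype.ext (by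
    change ⁅(d : X) * e, y⁆ = ⁅(d : X), y⁆ * ⁅(e : X), y⁆
    rw [ab _ (b d d.2) _ (b e e.2), show ⁅(d : X) * e, y⁆ = d * ⁅(e : X), y⁆ * (d : X)⁻¹ * ⁅(d : X), y⁆ by
      simp only [commutatorElement_def]; group, ab _ d.2 _ (b e e.2), mul_inv_cancel_right])
  haveI : (𝐂(Q).subgroupOf D).Normal := ⟨fun a ha g => by
    rwa [show g * a * g⁻¹ = a from Subtype.ext (by
      change (g : X) * a * (g : X)⁻¹ = a
      rw [ab _ g.2 _ a.2, mul_inv_cancel_right])]⟩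
  have l : 𝐂(Q).subgroupOf D ≤ (𝐂(Q).subgroupOf D).comap f := fun d (hd : (d : X) ∈ 𝐂(Q)) =>
    show ⁅(d : X), y⁆ ∈ 𝐂(Q) from mul_mem (mul_mem (mul_mem hd yQ) (inv_mem hd)) (inv_mem yQ)
  have t : f.range ⊔ 𝐂(Q).subgroupOf D = ⊤ := eq_top_iff.2 fun w _ => by
    by_cases e : (w : X) ∈ 𝐂(Q)
    · exact mem_sup_right e
    rcases (s.cov w).2 ⟨DC w.2, fun r => e (cent_anti hQ.le r)⟩ with r | r
    · obtain ⟨d, hd, e1⟩ := I _ (s.mulV r hy)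
      rw [show d * (w * y) * d⁻¹ = ⁅d, y⁆ * w * y by
        rw [ab _ (b d hd) _ w.2, ← mul_assoc, ab d hd _ w.2, commutatorElement_def]; group,
        mul_mem_cancel_right yQ] at e1
      exact (mul_mem_cancel_left (mem_sup_left (MonoidHom.mem_range.2 ⟨⟨d, hd⟩, rfl⟩))).1
        (mem_sup_right (x := f ⟨d, hd⟩ * w) (mem_subgroupOf.2 e1))
    · obtain ⟨d, hd, e1⟩ := I _ r
      rw [ab d hd _ w.2, mul_inv_cancel_right] at e1
      exact (e e1).elim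
  have i := relIndex_mul_index l
  rw [index_comap, ← relIndex_sup_right f.range, t, relIndex_top_right] at i
  have i2 := relIndex_eq_one.1 (Nat.eq_of_mul_eq_mul_right
    (Nat.pos_of_ne_zero index_ne_zero_of_finite) (i.trans (one_mul _).symm))
  have xQ : x ∈ 𝐂(Q) := i2 (x := ⟨x, xD⟩) (by
    change ⁅x, y⁆ ∈ 𝐂(Q)
    rw [P19.K.br1.2 xy]
    exact one_mem _)
  exact hQ.ndvd (qx.trans (relIndex_dvd_of_le_left _ (mem_cent_iff_cent1.1 xQ)))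

theorem nV {y : X} (hy : y ∈ V) : y ∉ kk G U := fun h => by
  obtain ⟨x, hx⟩ := s.ne
  exact s.nc hx hy (mem_cent1.2 (h.2 x ⟨x, hx, 1, one_mem _, by group⟩))

theorem solL : Group.IsSolvable (𝐙(kk G U) : Subgroup X) :=
  Group.isSolvable_of_comm fun a b => Subtype.ext (b.2.2 a a.2.1)

theorem solK : Group.IsSolvable (kk G U) := by
  haveI := s.nK
  haveI := s.nL
  have c := s.cop.coprime_dvd_right (Subgroup.card_dvd_of_le (inf_le_left : kk G U ≤ G))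
  obtain ⟨T, t1, -, t2⟩ := exists_invariant_isSyl Nat.prime_two (K := kk G U) (Q := ⊥)
    le_normalizer_of_normal c (.inl (solv_odd s.odd)) IsPGroup.of_bot bot_le
    (le_top.trans norm_bot.ge)
  exact fp _ s.solL le_normalizer_of_normal c s.odd t1 t2 fun t ht =>
    (s.tri ⟨(t1.le ht.1).1, ht.2⟩).resolve_right fun e => s.nV e (t1.le ht.1)

theorem inv {y g : X} (hy : y ∈ V) (yy : y * y ∈ kk G U) (hg : g ∈ G) : ⁅y, g⁆ ∈ kk G U := by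
  have yG := (s.v hy).1.1
  have k : ∀ x ∈ U, ∃ z ∈ 𝐂(G), ∀ g ∈ G,
      y * (g * x * g⁻¹) * y⁻¹ = (g * x * g⁻¹)⁻¹ * z := fun x hx => by
    have xD : x ∈ 𝐙(kk G U) ⊓ 𝐂(B) := ⟨s.uL hx, (s.u hx).1.2⟩
    have a := (mem_normalizer_iff.1 (s.nD (s.v hy).1) x).1 xD
    have zD := mul_mem xD a
    have zc : x * (y * x * y⁻¹) ∈ 𝐂(G) := by_contra fun e => by
      rcases (s.cov _).2 ⟨⟨zD.1.1.1, zD.2⟩, e⟩ with r | r
      · refine s.nc r hy (mem_cent1_iff_conj.2 ?_)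
        calc _ = y * x * y⁻¹ * (y * y * x * (y * y)⁻¹) := by group
          _ = _ := by rw [xD.1.2 _ yy, mul_inv_cancel_right, xD.1.2 _ a.1.1]
      · exact s.nV r zD.1.1
    refine ⟨_, zc, fun g hg => ?_⟩
    obtain ⟨h, hh, c, hc, rfl⟩ := fac (s.cp x hx y hy).symm hg
    rw [show h * c * x * (h * c)⁻¹ = h * (c * x * c⁻¹) * h⁻¹ by group, mem_cent1_iff_conj.1 hc.2]
    calc _ = y * h * x * (y * h)⁻¹ := by group
      _ = h * x⁻¹ * (x * (y * x * y⁻¹) * h⁻¹) := by rw [mem_cent1.1 hh.2]; group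
      _ = _ := by rw [← zc _ (inv_mem hh.1)]; group
  refine mem_inf.2 ⟨mul_mem (mul_mem (mul_mem yG hg) (inv_mem yG)) (inv_mem hg), ?_⟩
  rintro _ ⟨x, hx, h, hh, rfl⟩
  obtain ⟨z, hz, e⟩ := k x hx
  have e1 := e _ (mul_mem (mul_mem (inv_mem yG) (inv_mem hg)) hh)
  have e2 := e _ (mul_mem (mul_mem (mul_mem hg (inv_mem yG)) (inv_mem hg)) hh)
  symm
  rw [← mul_inv_eq_iff_eq_mul]
  calc _ = y * (g * y⁻¹ * g⁻¹ * h * x * (g * y⁻¹ * g⁻¹ * h)⁻¹) * y⁻¹ := by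
        simp only [commutatorElement_def]; group
    _ = g * ((y⁻¹ * g⁻¹ * h * x * (y⁻¹ * g⁻¹ * h)⁻¹)⁻¹ * (g⁻¹ * z)) := by rw [e2]; group
    _ = g * ((y⁻¹ * g⁻¹ * h * x * (y⁻¹ * g⁻¹ * h)⁻¹)⁻¹ * z) * g⁻¹ := by
        rw [hz _ (inv_mem hg)]; group
    _ = _ := by rw [← e1]; group

theorem solv : Group.IsSolvable G := by
  haveI := s.nK
  haveI := s.nL
  haveI := s.nrm
  have sB := solv_odd s.odd
  obtain ⟨T, t1, -, t2⟩ := exists_invariant_isSyl Nat.prime_two (K := G) (Q := ⊥)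
    s.nG s.cop (.inl sB) IsPGroup.of_bot bot_le (le_top.trans norm_bot.ge)
  by_cases e : T ⊓ 𝐂(B) ≤ 𝐙(kk G U)
  · exact fp _ s.solL s.nG s.cop s.odd t1 t2 e
  obtain ⟨y, hy, y1⟩ := SetLike.not_le_iff_exists.1 e
  have yV := (s.tri ⟨t1.le hy.1, hy.2⟩).resolve_left y1
  obtain ⟨x, hx⟩ := s.ne
  have ev : 2 ∣ 𝐂[x].relIndex G := by_contra fun r => by
    obtain ⟨c, hc, e1⟩ := s.into Nat.prime_two t1 t2 (s.u hx).1.2 r
    have cc := mul_mem (mul_mem hc (s.u hx).1) (inv_mem hc)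
    rcases s.tri cc with r | r
    · rcases (s.cov _).2 ⟨cc, fun k => (s.u hx).2 (by
        have := k c hc.1
        rwa [← show c * x * c⁻¹ = x by simpa [mul_assoc] using this])⟩ with k | k
      · exact s.nc k yV (mem_cent_iff_cent1.1 e1 hy.1)
      · exact s.nV k r.1
    · exact s.nV r (s.nK.conj_mem _ (s.uL hx).1 c)
  have od : ∀ y ∈ V, ¬ 2 ∣ 𝐂[y].relIndex G := fun y hy e =>
    absurd (Nat.eq_one_of_dvd_coprimes (s.cp x hx y hy) ev e) (by norm_num)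
  let π := QuotientGroup.mk' (kk G U)
  have k1 : ∀ x, π x = 1 ↔ x ∈ kk G U := fun x => QuotientGroup.eq_one_iff x
  have := L.isSolvable_of_normal_of_quotient _ s.solK (dc (X ⧸ kk G U) (G.map π) (B.map π)
    (T.map π) (s.nrm.map π (QuotientGroup.mk'_surjective _))
    (by rw [← Subgroup.map_sup, s.top, map_top_of_surjective _ (QuotientGroup.mk'_surjective _)])
    ((s.cop.coprime_dvd_left (card_map_dvd _ _)).coprime_dvd_right (card_map_dvd _ _))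
    (s.odd.of_dvd_nat (card_map_dvd _ _)) (syl_map t1 _)
    ((map_mono t2).trans (le_normalizer_map _)) ?_ ?_)
  · infer_instance
  · rw [H1.map_inf_centralizer_map _ t2
      (s.cop.coprime_dvd_right (Subgroup.card_dvd_of_le t1.le)) (.inl sB)]
    rintro _ ⟨c, hc, rfl⟩ _ ⟨t, ht, rfl⟩
    obtain ⟨u, hu, d, hd, rfl⟩ := s.jor Nat.prime_two t1 t2 od ⟨t1.le hc.1, hc.2⟩
    rw [map_mul, (k1 d).2 hd.1.1, mul_one, ← map_mul, ← map_mul, hu t ht]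
  · rw [H1.map_inf_centralizer_map _ s.nG s.cop (.inl sB)]
    rintro _ ⟨c, hc, rfl⟩ cc _ ⟨g, hg, rfl⟩
    rcases s.tri hc with r | r
    · rw [(k1 c).2 r.1, mul_one, one_mul]
    · symm
      rw [← commutatorElement_eq_one_iff_mul_comm, ← map_commutatorElement, k1]
      exact s.inv r ((k1 _).1 (by rwa [map_mul])) hg

end Sp

end Cfsg.Agent.P28
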